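import Mathlib.CategoryTheory.Triangulated.TStructure.Heart
import Mathlib.CategoryTheory.Triangulated.TStructure.TruncLEGT
import Mathlib.CategoryTheory.Triangulated.HomologicalFunctor
import Mathlib.CategoryTheory.Abelian.Exact
import Mathlib.CategoryTheory.Abelian.Refinements

/-! The degree-zero cohomology functor of a t-structure is homological. -/

universe v u v' u'

open CategoryTheory CategoryTheory.Limits CategoryTheory.Pretriangulated CategoryTheory.Triangulated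

set_option backward.defeqAttrib.useBackward true
set_option backward.isDefEq.respectTransparency false
namespace Groth.L10.Tri.H0

variable {C : Type u} [Category.{v} C] [Preadditive C] [HasZeroObject C] [HasShift C ℤ]
  [∀ n : ℤ, (shiftFunctor C n).Additive] [Pretriangulated C] [IsTriangulated C] (t : TStructure C)
  {H : Type u'} [Category.{v'} H] [Abelian H] [t.Heart H] (H0 : C ⥤ H)
  (e : H0 ⋙ t.ιHeart ≅ t.truncGE 0 ⋙ t.truncLE 0)

noncomputable def e' : H0 ⋙ t.ιHeart ≅ t.truncLE 0 ⋙ t.truncGE 0 :=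
  e ≪≫ (t.truncGELEIsoLEGE 0 0).symm

noncomputable def p (X : C) [t.IsLE X 0] : X ⟶ t.ιHeart.obj (H0.obj X) :=
  inv ((t.truncLEι 0).app X) ≫ (t.truncGEπ 0).app ((t.truncLE 0).obj X) ≫ (e' t H0 e).inv.app X

theorem p_nat {X Y : C} [t.IsLE X 0] [t.IsLE Y 0] (f : X ⟶ Y) :
    p t H0 e X ≫ t.ιHeart.map (H0.map f) = f ≫ p t H0 e Y := by
  have h1 : (e' t H0 e).inv.app X ≫ t.ιHeart.map (H0.map f) =
      (t.truncGE 0).map ((t.truncLE 0).map f) ≫ (e' t H0 e).inv.app Y :=
    ((e' t H0 e).inv.naturality f).symm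
  have h2 : (t.truncGEπ 0).app _ ≫ (t.truncGE 0).map ((t.truncLE 0).map f) =
      (t.truncLE 0).map f ≫ (t.truncGEπ 0).app _ := ((t.truncGEπ 0).naturality _).symm
  rw [p, p, Category.assoc, Category.assoc, h1, reassoc_of% h2, IsIso.inv_comp_eq]
  rw [← reassoc_of% (show (t.truncLE 0).map f ≫ (t.truncLEι 0).app Y = (t.truncLEι 0).app X ≫ f from
    (t.truncLEι 0).naturality f)]
  congr 1
  exact (IsIso.hom_inv_id_assoc ((t.truncLEι 0).app Y) _).symm

theorem p_inj {X : C} [t.IsLE X 0] {A : C} [t.IsGE A 0] {a b : t.ιHeart.obj (H0.obj X) ⟶ A}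
    (h : p t H0 e X ≫ a = p t H0 e X ≫ b) : a = b := by
  simp only [p, Category.assoc, cancel_epi] at h
  exact (cancel_epi _).1 (t.from_truncGE_obj_ext h)

theorem p_fac {X : C} [t.IsLE X 0] {A : H} (r : X ⟶ t.ιHeart.obj A) :
    ∃ r' : H0.obj X ⟶ A, p t H0 e X ≫ t.ιHeart.map r' = r := by
  obtain ⟨s, hs⟩ := Triangle.yoneda_exact₂ _ (t.triangleLTGE_distinguished 0 ((t.truncLE 0).obj X))
    ((t.truncLEι 0).app X ≫ r) (t.zero_of_isLE_of_isGE _ (-1) 0 (by omega) (t.isLE_truncLT_obj _ 0 (-1)) inferInstance)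
  refine ⟨t.ιHeart.preimage ((e' t H0 e).hom.app X ≫ s), ?_⟩
  rw [Functor.map_preimage, p, Category.assoc, Category.assoc, Iso.inv_hom_id_app_assoc]
  refine ((IsIso.inv_comp_eq _).2 ?_)
  exact hs.symm

noncomputable def j (X : C) [t.IsGE X 0] : t.ιHeart.obj (H0.obj X) ⟶ X :=
  e.hom.app X ≫ (t.truncLEι 0).app ((t.truncGE 0).obj X) ≫ inv ((t.truncGEπ 0).app X)

theorem j_nat {X Y : C} [t.IsGE X 0] [t.IsGE Y 0] (f : X ⟶ Y) :
    t.ιHeart.map (H0.map f) ≫ j t H0 e Y = j t H0 e X ≫ f := by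
  have h1 : t.ιHeart.map (H0.map f) ≫ e.hom.app Y =
      e.hom.app X ≫ (t.truncLE 0).map ((t.truncGE 0).map f) := e.hom.naturality f
  have h2 : (t.truncLE 0).map ((t.truncGE 0).map f) ≫ (t.truncLEι 0).app _ =
      (t.truncLEι 0).app _ ≫ (t.truncGE 0).map f := (t.truncLEι 0).naturality _
  rw [j, j, reassoc_of% h1, reassoc_of% h2, Category.assoc, Category.assoc]
  congr 2
  rw [IsIso.eq_inv_comp, ← Category.assoc, IsIso.comp_inv_eq]
  exact ((t.truncGEπ 0).naturality f).symm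

theorem j_inj {X : C} [t.IsGE X 0] {A : C} [t.IsLE A 0] {a b : A ⟶ t.ιHeart.obj (H0.obj X)}
    (h : a ≫ j t H0 e X = b ≫ j t H0 e X) : a = b := by
  rw [j] at h
  simp only [← Category.assoc, cancel_mono] at h
  exact (cancel_mono _).1 (t.to_truncLE_obj_ext h)

include e in
theorem preservesZero : H0.PreservesZeroMorphisms where
  map_zero X Y := t.ιHeart.map_injective (by
    rw [← cancel_mono (e.hom.app Y)]
    exact (e.hom.naturality _).trans (by simp))

include e in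
theorem isIso_map₁ {T : Triangle C} (hT : T ∈ distTriang C) (h₃ : t.IsGE T.obj₃ 1) :
    IsIso (H0.map T.mor₁) := by
  have := t.isIso₁_truncLE_map_of_isGE T hT 0 1 rfl h₃
  have : IsIso ((H0 ⋙ t.ιHeart).map T.mor₁) :=
    (NatIso.isIso_map_iff (e' t H0 e) T.mor₁).2 (inferInstanceAs (IsIso ((t.truncGE 0).map _)))
  have : IsIso (t.ιHeart.map (H0.map T.mor₁)) := this
  exact isIso_of_reflects_iso (H0.map T.mor₁) t.ιHeart

include e in
theorem isIso_map₂ {T : Triangle C} (hT : T ∈ distTriang C) (h₁ : t.IsLE T.obj₁ (-1)) :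
    IsIso (H0.map T.mor₂) := by
  have := t.isIso₂_truncGE_map_of_isLE T hT (-1) 0 rfl h₁
  have : IsIso ((H0 ⋙ t.ιHeart).map T.mor₂) :=
    (NatIso.isIso_map_iff e T.mor₂).2 (inferInstanceAs (IsIso ((t.truncLE 0).map _)))
  have : IsIso (t.ιHeart.map (H0.map T.mor₂)) := this
  exact isIso_of_reflects_iso (H0.map T.mor₂) t.ιHeart

variable {X Y Z : C} {f : X ⟶ Y} {g : Y ⟶ Z} {h : Z ⟶ X⟦(1 : ℤ)⟧}

include e in
theorem comp_zero' (hT : Triangle.mk f g h ∈ distTriang C) : H0.map f ≫ H0.map g = 0 := by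
  have := preservesZero t H0 e
  rw [← H0.map_comp, show f ≫ g = 0 from comp_distTriang_mor_zero₁₂ _ hT, H0.map_zero]

include e in
theorem exact_of_le (hT : Triangle.mk f g h ∈ distTriang C) (hX : t.IsLE X 0) (hY : t.IsLE Y 0)
    (hZ : t.IsLE Z 0) :
    (ShortComplex.mk (H0.map f) (H0.map g) (comp_zero' t H0 e hT)).Exact := by
  rw [ShortComplex.exact_iff_kernel_ι_comp_cokernel_π_zero]
  set c := cokernel.π (H0.map f)
  have hq : f ≫ p t H0 e Y ≫ t.ιHeart.map c = 0 := by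
    rw [← reassoc_of% (p_nat t H0 e f), ← Functor.map_comp, cokernel.condition, Functor.map_zero, comp_zero]
  obtain ⟨r, hr⟩ := Triangle.yoneda_exact₂ _ hT (p t H0 e Y ≫ t.ιHeart.map c) hq
  obtain ⟨r', hr'⟩ := p_fac t H0 e (X := Z) r
  have hc : c = H0.map g ≫ r' := t.ιHeart.map_injective (p_inj t H0 e (by
    rw [hr, Functor.map_comp, reassoc_of% (p_nat t H0 e g), hr']
    rfl))
  change kernel.ι (H0.map g) ≫ c = 0
  rw [hc, kernel.condition_assoc, zero_comp]

include e in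
theorem exact_of_le₁ (hT : Triangle.mk f g h ∈ distTriang C) (hX : t.IsLE X 0) :
    (ShortComplex.mk (H0.map f) (H0.map g) (comp_zero' t H0 e hT)).Exact := by
  obtain ⟨W, v, w, hW⟩ := distinguished_cocone_triangle (t.liftTruncLE f 0)
  let o := Triangulated.someOctahedron (t.liftTruncLE_ι f 0) hW (t.triangleLEGT_distinguished 0 Y) hT
  have hY' : t.IsLE ((t.truncLE 0).obj Y) 0 := inferInstance
  have hW' : t.IsLE W 0 := by
    have : t.IsLE (X⟦(1 : ℤ)⟧) (-1) := t.isLE_shift _ 0 1 (-1)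
    exact t.isLE₂ _ (rot_of_distTriang _ hW) 0 hY' (t.isLE_of_le (X⟦(1 : ℤ)⟧) (-1) 0)
  have hi₁ : IsIso (H0.map ((t.truncLEι 0).app Y)) :=
    isIso_map₁ t H0 e (T := (t.triangleLEGT 0).obj Y) (t.triangleLEGT_distinguished 0 Y) (inferInstanceAs (t.IsGE ((t.truncGT 0).obj Y) (0 + 1)))
  have hi₂ : IsIso (H0.map o.m₁) :=
    isIso_map₁ t H0 e o.mem (inferInstanceAs (t.IsGE ((t.truncGT 0).obj Y) (0 + 1)))
  refine ShortComplex.exact_of_iso ?_ (exact_of_le t H0 e hW hX hY' hW')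
  refine ShortComplex.isoMk (Iso.refl _) (@asIso _ _ _ _ _ hi₁) (@asIso _ _ _ _ _ hi₂) ?_ ?_
  · dsimp
    rw [Category.id_comp, ← H0.map_comp, t.liftTruncLE_ι f 0]
  · dsimp
    rw [← H0.map_comp, ← H0.map_comp]
    exact congrArg _ o.comm₁.symm

include e in
theorem mono_of_ge (hT : Triangle.mk f g h ∈ distTriang C) (hZ : t.IsGE Z 0) : Mono (H0.map f) := by
  obtain ⟨Y', v, w, hY'⟩ := distinguished_cocone_triangle ((t.truncLTι 0).app X ≫ f)
  let o := Triangulated.someOctahedron rfl (t.triangleLTGE_distinguished 0 X) hT hY'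
  have hX' : t.IsGE ((t.truncGE 0).obj X) 0 := inferInstance
  have hY'' : t.IsGE Y' 0 := t.isGE₂ _ o.mem 0 hX' hZ
  have hL : t.IsLE ((t.truncLT 0).obj X) (-1) := t.isLE_truncLT_obj _ 0 (-1)
  have hi₁ : IsIso (H0.map ((t.truncGEπ 0).app X)) := isIso_map₂ t H0 e (t.triangleLTGE_distinguished 0 X) hL
  have hi₂ : IsIso (H0.map v) := isIso_map₂ t H0 e hY' hL
  have hm : Mono (H0.map o.m₁) := by
    refine Preadditive.mono_of_cancel_zero _ fun {A} a ha => ?_
    have h0 : (t.ιHeart.map a ≫ j t H0 e _) ≫ o.m₁ = 0 := by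
      rw [Category.assoc, ← j_nat t H0 e o.m₁, ← Functor.map_comp_assoc, ha, Functor.map_zero, zero_comp]
    obtain ⟨k, hk⟩ := Triangle.coyoneda_exact₂ _ (inv_rot_of_distTriang _ o.mem) _ h0
    have hk0 : k = 0 :=
      t.zero_of_isLE_of_isGE k 0 1 (by omega) inferInstance (t.isGE_shift Z 0 (-1) 1)
    refine t.ιHeart.map_injective (j_inj t H0 e ?_)
    rw [Functor.map_zero, zero_comp, hk, hk0, zero_comp]
  have heq : H0.map ((t.truncGEπ 0).app X) ≫ H0.map o.m₁ = H0.map f ≫ H0.map v := by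
    rw [← H0.map_comp, ← H0.map_comp]
    exact congrArg _ o.comm₁
  have : Mono (H0.map f ≫ H0.map v) := by rw [← heq]; infer_instance
  exact mono_of_mono (H0.map f) (H0.map v)

include e in
theorem isHomological : H0.IsHomological where
  toPreservesZeroMorphisms := preservesZero t H0 e
  exact T hT := by
    obtain ⟨W, v, w, hW⟩ := distinguished_cocone_triangle ((t.truncLEι 0).app T.obj₁ ≫ T.mor₁)
    let o := Triangulated.someOctahedron rfl (t.triangleLEGT_distinguished 0 T.obj₁)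
      (show Triangle.mk T.mor₁ T.mor₂ T.mor₃ ∈ distTriang C from hT) hW
    have hs : t.IsGE (((t.truncGT 0).obj T.obj₁)⟦(1 : ℤ)⟧) 0 := t.isGE_shift _ (0 + 1) 1 0
    have hm : Mono (H0.map o.m₃) := mono_of_ge t H0 e (rot_of_distTriang _ o.mem) hs
    have hex := exact_of_le₁ t H0 e hW (inferInstanceAs (t.IsLE ((t.truncLE 0).obj T.obj₁) 0))
    rw [ShortComplex.exact_iff_exact_up_to_refinements] at hex ⊢
    intro A x hx
    have hx' : x ≫ H0.map v = 0 := by
      rw [← cancel_mono (H0.map o.m₃), Category.assoc, ← H0.map_comp, o.comm₃, zero_comp]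
      exact hx
    obtain ⟨A', π, hπ, y, hy⟩ := hex x hx'
    refine ⟨A', π, hπ, y ≫ H0.map ((t.truncLEι 0).app T.obj₁), ?_⟩
    dsimp at hy ⊢
    rw [hy, Category.assoc, ← H0.map_comp]

end Groth.L10.Tri.H0
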