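import Mathlib.CategoryTheory.Triangulated.TStructure.Heart
import Mathlib.CategoryTheory.Triangulated.TStructure.TruncLTGE
import Mathlib.CategoryTheory.Triangulated.TStructure.AbelianSubcategory
import Mathlib.CategoryTheory.Preadditive.Biproducts
import Mathlib.Algebra.Homology.ShortComplex.ShortExact

/-! The heart of a t-structure is abelian. -/

universe v u v' u'

open CategoryTheory CategoryTheory.Limits CategoryTheory.Pretriangulated CategoryTheory.Triangulated ZeroObject

set_option backward.defeqAttrib.useBackward true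
set_option backward.isDefEq.respectTransparency false
namespace Groth.L10.Tri

variable {C : Type u} [Category.{v} C] [Preadditive C] [HasZeroObject C] [HasShift C ℤ]
  [∀ n : ℤ, (shiftFunctor C n).Additive] [Pretriangulated C] (t : TStructure C)
  (H : Type u') [Category.{v'} H] [Preadditive H] [t.Heart H]

theorem exists_heart_preimage (X : C) (h₁ : t.IsLE X 0) (h₂ : t.IsGE X 0) :
    ∃ W : H, Nonempty (t.ιHeart.obj W ≅ X) := by
  have : (t.ιHeart (H := H)).essImage X := by
    rw [t.essImage_ιHeart H, t.mem_heart_iff]; exact ⟨h₁, h₂⟩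
  exact ⟨_, ⟨Functor.essImage.getIso this⟩⟩

theorem vanishing ⦃X Y : H⦄ ⦃n : ℤ⦄ (f : t.ιHeart.obj X ⟶ (t.ιHeart.obj Y)⟦n⟧) (hn : n < 0) : f = 0 := by
  have : t.IsGE ((t.ιHeart.obj Y)⟦n⟧) (-n) := t.isGE_shift _ 0 n (-n)
  exact t.zero f 0 (-n) (by omega)

include t in
theorem heart_hasFiniteProducts : HasFiniteProducts H := by
  have : HasTerminal H := by
    obtain ⟨W, ⟨e⟩⟩ := exists_heart_preimage t H 0 inferInstance inferInstance
    have hW : IsZero W := (IsZero.iff_id_eq_zero _).2 (t.ιHeart.map_injective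
      (((isZero_zero C).of_iso e).eq_of_src _ _))
    exact hW.isTerminal.hasTerminal
  have : HasBinaryProducts H := by
    have hb : ∀ X Y : H, HasBinaryBiproduct X Y := fun X Y => by
      have hle : t.IsLE (t.ιHeart.obj X ⊞ t.ιHeart.obj Y) 0 :=
        t.isLE₂ _ (binaryBiproductTriangle_distinguished (t.ιHeart.obj X) (t.ιHeart.obj Y)) 0
          (inferInstanceAs (t.IsLE (t.ιHeart.obj X) 0)) (inferInstanceAs (t.IsLE (t.ιHeart.obj Y) 0))
      have hge : t.IsGE (t.ιHeart.obj X ⊞ t.ιHeart.obj Y) 0 :=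
        t.isGE₂ _ (binaryBiproductTriangle_distinguished (t.ιHeart.obj X) (t.ιHeart.obj Y)) 0
          (inferInstanceAs (t.IsGE (t.ιHeart.obj X) 0)) (inferInstanceAs (t.IsGE (t.ιHeart.obj Y) 0))
      obtain ⟨W, ⟨e⟩⟩ := exists_heart_preimage t H _ hle hge
      let b : BinaryBicone X Y :=
        { pt := W
          fst := t.ιHeart.preimage (e.hom ≫ biprod.fst)
          snd := t.ιHeart.preimage (e.hom ≫ biprod.snd)
          inl := t.ιHeart.preimage (biprod.inl ≫ e.inv)
          inr := t.ιHeart.preimage (biprod.inr ≫ e.inv)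
          inl_fst := t.ιHeart.map_injective (by simp)
          inl_snd := t.ιHeart.map_injective (by simp)
          inr_fst := t.ιHeart.map_injective (by simp)
          inr_snd := t.ιHeart.map_injective (by simp) }
      exact ⟨⟨b, isBinaryBilimitOfTotal b (t.ιHeart.map_injective (by
        simp only [b, Functor.map_add, Functor.map_comp, Functor.map_preimage, Category.assoc]
        rw [← Preadditive.comp_add, ← Category.assoc biprod.fst, ← Category.assoc biprod.snd, ← Preadditive.add_comp,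
          biprod.total, Category.id_comp, Iso.hom_inv_id, CategoryTheory.Functor.map_id]))⟩⟩
    have : HasBinaryBiproducts H := ⟨hb⟩
    infer_instance
  exact hasFiniteProducts_of_has_binary_and_terminal

variable [IsTriangulated C]

theorem admissible : AbelianSubcategory.admissibleMorphism (t.ιHeart (H := H)) = ⊤ := by
  refine top_unique fun X₁ X₂ f₁ _ X₃ f₂ f₃ hT => ?_
  have hs : t.IsLE ((t.ιHeart.obj X₁)⟦(1 : ℤ)⟧) (-1) := t.isLE_shift _ 0 1 (-1)
  have hs' : t.IsGE ((t.ιHeart.obj X₁)⟦(1 : ℤ)⟧) (-1) := t.isGE_shift _ 0 1 (-1)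
  have hle : t.IsLE X₃ 0 := t.isLE₂ _ (rot_of_distTriang _ hT) 0 (inferInstanceAs (t.IsLE (t.ιHeart.obj X₂) 0))
    (t.isLE_of_le ((t.ιHeart.obj X₁)⟦(1 : ℤ)⟧) (-1) 0)
  have hge : t.IsGE X₃ (-1) := t.isGE₂ _ (rot_of_distTriang _ hT) (-1)
    (t.isGE_of_ge (t.ιHeart.obj X₂) (-1) 0) hs'
  let P := ((t.truncLT 0).obj X₃)⟦(-1 : ℤ)⟧
  have hP₁ : t.IsLE P 0 := by
    have : t.IsLE ((t.truncLT 0).obj X₃) (-1) := t.isLE_truncLT_obj _ 0 (-1)
    exact t.isLE_shift _ (-1) (-1) 0
  have hP₂ : t.IsGE P 0 := t.isGE_shift _ (-1) (-1) 0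
  obtain ⟨K, ⟨eK⟩⟩ := exists_heart_preimage t H P hP₁ hP₂
  obtain ⟨Q, ⟨eQ⟩⟩ := exists_heart_preimage t H ((t.truncGE 0).obj X₃) inferInstance inferInstance
  let eK' : (t.ιHeart.obj K)⟦(1 : ℤ)⟧ ≅ (t.truncLT 0).obj X₃ :=
    (shiftFunctor C (1 : ℤ)).mapIso eK ≪≫ (shiftEquiv C (1 : ℤ)).counitIso.app _
  refine ⟨K, Q, eK'.hom ≫ (t.truncLTι 0).app X₃, (t.truncGEπ 0).app X₃ ≫ eQ.inv,
    eQ.hom ≫ (t.truncGEδLT 0).app X₃ ≫ eK'.inv⟦(1 : ℤ)⟧', ?_⟩
  refine isomorphic_distinguished _ (t.triangleLTGE_distinguished 0 X₃) _ ?_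
  refine Triangle.isoMk _ _ eK' (Iso.refl _) eQ ?_ ?_ ?_
  · simp
  · simp
  · simp only [Triangle.mk_mor₃, Category.assoc]
    rw [← Functor.map_comp, eK'.inv_hom_id, CategoryTheory.Functor.map_id]
    exact congrArg (eQ.hom ≫ ·) (Category.comp_id _)

/-- The abelian structure on the heart. -/
@[instance_reducible]
noncomputable def heartAbelian : Abelian H :=
  haveI := heart_hasFiniteProducts t H
  AbelianSubcategory.abelian (t.ιHeart (H := H)) (vanishing t H) (admissible t H)

section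

variable {C : Type u} [Category.{v} C] [Preadditive C] [HasZeroObject C] [HasShift C ℤ]
  [∀ n : ℤ, (shiftFunctor C n).Additive] [Pretriangulated C] [IsTriangulated C] (t : TStructure C)
  {H : Type u'} [Category.{v'} H] [Abelian H] [t.Heart H] {X Y Z : H} (u : X ⟶ Y) (v : Y ⟶ Z)

theorem shortExact_iff :
    (∃ huv : u ≫ v = 0, (ShortComplex.mk u v huv).ShortExact) ↔
      ∃ (w : t.ιHeart.obj Z ⟶ (t.ιHeart.obj X)⟦(1 : ℤ)⟧),
        Triangle.mk (t.ιHeart.map u) (t.ιHeart.map v) w ∈ distTriang C := by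
  constructor
  · rintro ⟨huv, hS⟩
    have : Epi v := hS.epi_g
    obtain ⟨X₁, i, δ, hT⟩ := AbelianSubcategory.exists_distinguished_triangle_of_epi (vanishing t H) (admissible t H) v
    have hK := AbelianSubcategory.isLimitKernelForkOfDistTriang (vanishing t H) i v δ hT
    obtain ⟨e, he⟩ : ∃ e : X ≅ X₁, e.hom ≫ i = u := ⟨IsLimit.conePointUniqueUpToIso hS.fIsKernel hK,
      IsLimit.conePointUniqueUpToIso_hom_comp hS.fIsKernel hK WalkingParallelPair.zero⟩
    refine ⟨δ ≫ (t.ιHeart.map e.inv)⟦(1 : ℤ)⟧', isomorphic_distinguished _ hT _ ?_⟩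
    refine Triangle.isoMk _ _ (t.ιHeart.mapIso e) (Iso.refl _) (Iso.refl _) ?_ ?_ ?_
    · simp only [Triangle.mk_mor₁, Iso.refl_hom, Category.comp_id, Functor.mapIso_hom]
      exact ((t.ιHeart.map_comp _ _).symm.trans (congrArg _ he)).symm
    · simp
    · simp only [Triangle.mk_mor₃, Iso.refl_hom, Functor.mapIso_hom, Category.assoc]
      rw [← Functor.map_comp, ← Functor.map_comp, e.inv_hom_id, CategoryTheory.Functor.map_id, CategoryTheory.Functor.map_id]
      exact (Category.comp_id δ).trans (Category.id_comp δ).symm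
  · rintro ⟨w, hT⟩
    have huv : u ≫ v = 0 := t.ιHeart.map_injective
      (((t.ιHeart.map_comp _ _).trans (comp_distTriang_mor_zero₁₂ _ hT)).trans (t.ιHeart.map_zero _ _).symm)
    have hk := AbelianSubcategory.isLimitKernelForkOfDistTriang (vanishing t H) u v w hT
    have hc := AbelianSubcategory.isColimitCokernelCoforkOfDistTriang (vanishing t H) u v w hT
    have : Mono u := Fork.IsLimit.mono hk
    have : Epi v := Cofork.IsColimit.epi hc
    exact ⟨huv, { exact := ShortComplex.exact_of_f_is_kernel _ hk }⟩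

end

end Groth.L10.Tri
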