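import Mathlib.CategoryTheory.Triangulated.TStructure.TruncLTGE
import Mathlib.CategoryTheory.Idempotents.Basic

/-! Bounded t-structures force idempotent completeness. -/

universe v u

open CategoryTheory CategoryTheory.Limits CategoryTheory.Pretriangulated CategoryTheory.Triangulated

namespace Groth.L10.Tri

variable {C : Type u} [Category.{v} C] [Preadditive C]

/-- An endomorphism splits. -/
def Splits {X : C} (p : X ⟶ X) : Prop := ∃ (Y : C) (i : Y ⟶ X) (e : X ⟶ Y), i ≫ e = 𝟙 Y ∧ e ≫ i = p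

/-- An idempotent close to a split idempotent splits. -/
theorem splits_of_sq_zero {X : C} {p q : X ⟶ X} (hp : p ≫ p = p) (hq : q ≫ q = q) (hd : (p - q) ≫ (p - q) = 0)
    (h : Splits q) : Splits p := by
  obtain ⟨Y, i, e, hie, hei⟩ := h
  have h1 : p ≫ q + q ≫ p = p + q := by
    simp only [Preadditive.comp_sub, Preadditive.sub_comp, hp, hq] at hd
    rw [← sub_eq_zero, ← neg_eq_zero, ← hd]; abel
  let u := p ≫ q + (𝟙 X - p) ≫ (𝟙 X - q)
  let v := q ≫ p + (𝟙 X - q) ≫ (𝟙 X - p)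
  have hu : u = 𝟙 X - p - q + (p ≫ q + p ≫ q) := by
    simp only [u, Preadditive.comp_sub, Preadditive.sub_comp, Category.id_comp, Category.comp_id]; abel
  have hv : v = 𝟙 X - p - q + (q ≫ p + q ≫ p) := by
    simp only [v, Preadditive.comp_sub, Preadditive.sub_comp, Category.id_comp, Category.comp_id]; abel
  have hqp : q ≫ p = p + q - p ≫ q := by rw [← h1]; abel
  have e_qpq : q ≫ p ≫ q = q := by
    rw [← Category.assoc, hqp]
    simp only [Preadditive.sub_comp, Preadditive.add_comp, hq, Category.assoc]; abel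
  have e_pqp : p ≫ q ≫ p = p := by
    rw [hqp]; simp only [Preadditive.comp_sub, Preadditive.comp_add, hp, reassoc_of% hp]; abel
  have hvu : v ≫ u = 𝟙 X := by
    rw [hu, hv]
    simp only [Preadditive.comp_add, Preadditive.add_comp, Preadditive.comp_sub, Preadditive.sub_comp,
      Category.id_comp, Category.comp_id, Category.assoc, hp, hq, reassoc_of% hp, e_qpq]
    rw [hqp]
    abel
  refine ⟨Y, i ≫ v, u ≫ e, by rw [Category.assoc, reassoc_of% hvu, hie], ?_⟩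
  rw [Category.assoc, reassoc_of% hei]
  simp only [u, v, Preadditive.comp_add, Preadditive.add_comp, Preadditive.comp_sub, Preadditive.sub_comp,
    Category.id_comp, Category.comp_id, Category.assoc, hq, reassoc_of% hq]
  simp [e_pqp]

variable [HasZeroObject C] [HasShift C ℤ] [∀ n : ℤ, (shiftFunctor C n).Additive] [Pretriangulated C]

/-- Splitting in the middle of a triangle. -/
theorem splits_of_triangle {T : Triangle C} (hT : T ∈ distTriang C) (φ : T ⟶ T) (h₂ : φ.hom₂ ≫ φ.hom₂ = φ.hom₂)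
    (hA : Splits φ.hom₁) (hB : Splits φ.hom₃) : Splits φ.hom₂ := by
  obtain ⟨A₁, iA, eA, hA₁, hA₂⟩ := hA
  obtain ⟨B₁, iB, eB, hB₁, hB₂⟩ := hB
  obtain ⟨X₁, f₁, g₁, hT₁⟩ := distinguished_cocone_triangle₂ (iB ≫ T.mor₃ ≫ eA⟦(1 : ℤ)⟧')
  have c1 : T.mor₃ ≫ eA⟦(1 : ℤ)⟧' = eB ≫ iB ≫ T.mor₃ ≫ eA⟦(1 : ℤ)⟧' := by
    rw [reassoc_of% hB₂, ← φ.comm₃_assoc, ← Functor.map_comp, ← hA₂, Category.assoc, hA₁, Category.comp_id]
  obtain ⟨eX, he₁, he₂⟩ : ∃ eX : T.obj₂ ⟶ X₁, T.mor₁ ≫ eX = eA ≫ f₁ ∧ T.mor₂ ≫ eB = eX ≫ g₁ :=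
    complete_distinguished_triangle_morphism₂ T _ hT hT₁ eA eB c1
  have c2 : (iB ≫ T.mor₃ ≫ eA⟦(1 : ℤ)⟧') ≫ iA⟦(1 : ℤ)⟧' = iB ≫ T.mor₃ := by
    rw [Category.assoc, Category.assoc, ← Functor.map_comp, hA₂, φ.comm₃, ← hB₂, Category.assoc,
      reassoc_of% hB₁]
  obtain ⟨iX, hi₁, hi₂⟩ : ∃ iX : X₁ ⟶ T.obj₂, f₁ ≫ iX = iA ≫ T.mor₁ ∧ g₁ ≫ iB = iX ≫ T.mor₂ :=
    complete_distinguished_triangle_morphism₂ _ T hT₁ hT iA iB c2
  let r := iX ≫ eX
  have hr₁ : f₁ ≫ r = f₁ := by rw [reassoc_of% hi₁, he₁, reassoc_of% hA₁]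
  have hr₂ : r ≫ g₁ = g₁ := by rw [Category.assoc, ← he₂, ← reassoc_of% hi₂, hB₁, Category.comp_id]
  let ρ : Triangle.mk f₁ g₁ (iB ≫ T.mor₃ ≫ eA⟦(1 : ℤ)⟧') ⟶ Triangle.mk f₁ g₁ (iB ≫ T.mor₃ ≫ eA⟦(1 : ℤ)⟧') :=
    Triangle.homMk _ _ (𝟙 A₁) r (𝟙 B₁) (hr₁.trans (Category.id_comp f₁).symm)
      ((Category.comp_id g₁).trans hr₂.symm)
      (((congrArg (_ ≫ ·) ((shiftFunctor C (1 : ℤ)).map_id A₁)).trans (Category.comp_id _)).trans (Category.id_comp _).symm)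
  have : IsIso r := isIso₂_of_isIso₁₃ ρ hT₁ hT₁ (by change IsIso (𝟙 A₁); infer_instance)
    (by change IsIso (𝟙 B₁); infer_instance)
  let q := eX ≫ inv r ≫ iX
  have hri : (iX ≫ eX) ≫ inv r = 𝟙 X₁ := IsIso.hom_inv_id r
  refine splits_of_sq_zero h₂ (q := q) ?_ ?_ ⟨X₁, iX, eX ≫ inv r, by rw [← Category.assoc, hri], Category.assoc _ _ _⟩
  · simp only [q, Category.assoc]
    rw [reassoc_of% hri]
  · have e1 : T.mor₁ ≫ (φ.hom₂ - q) = 0 := by
      rw [Preadditive.comp_sub, φ.comm₁, sub_eq_zero]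
      simp only [q]
      have hr₁' : f₁ ≫ inv r = f₁ := by rw [IsIso.comp_inv_eq, hr₁]
      rw [reassoc_of% he₁, reassoc_of% hr₁', hi₁, ← hA₂, Category.assoc]
    have e2 : (φ.hom₂ - q) ≫ T.mor₂ = 0 := by
      rw [Preadditive.sub_comp, ← φ.comm₂, sub_eq_zero]
      simp only [q, Category.assoc]
      have hr₂' : inv r ≫ g₁ = g₁ := by rw [IsIso.inv_comp_eq, hr₂]
      rw [← hi₂, reassoc_of% hr₂', ← reassoc_of% he₂, hB₂]
    obtain ⟨w, hw⟩ := Triangle.coyoneda_exact₂ _ hT _ e2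
    calc _ = (w ≫ T.mor₁) ≫ (φ.hom₂ - q) := congrArg (· ≫ _) hw
      _ = 0 := by rw [Category.assoc, e1, comp_zero]

variable [IsTriangulated C] (t : TStructure C)

omit [IsTriangulated C] in
/-- Idempotents split for objects concentrated in one degree. -/
theorem splits_pure (X : C) (n : ℤ) [t.IsLE X n] [t.IsGE X n] (q : X ⟶ X) (hq : q ≫ q = q) : Splits q := by
  let p := 𝟙 X - q
  have hpq : p ≫ q = 0 := by simp [p, hq]
  obtain ⟨Z, g, h, hT⟩ := distinguished_cocone_triangle p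
  let π := g ≫ (t.truncGEπ n).app Z
  have hpπ : p ≫ π = 0 := by
    have := comp_distTriang_mor_zero₁₂ _ hT
    change p ≫ g = 0 at this
    rw [← Category.assoc, this, zero_comp]
  have hepi : ∀ {Y : C} [t.IsGE Y n] (φ ψ : (t.truncGE n).obj Z ⟶ Y), π ≫ φ = π ≫ ψ → φ = ψ := fun {Y} _ φ ψ e => by
    refine t.from_truncGE_obj_ext ?_
    rw [← sub_eq_zero, ← Preadditive.comp_sub]
    obtain ⟨k, hk⟩ : ∃ k : X⟦(1 : ℤ)⟧ ⟶ Y, (t.truncGEπ n).app Z ≫ (φ - ψ) = h ≫ k := by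
      refine Triangle.yoneda_exact₃ _ hT _ ?_
      change g ≫ _ = 0
      rw [← Category.assoc, Preadditive.comp_sub, e, sub_self]
    have : t.IsLE (X⟦(1 : ℤ)⟧) (n - 1) := t.isLE_shift X n 1 (n - 1)
    rw [hk, t.zero_of_isLE_of_isGE k (n - 1) n (by omega) inferInstance inferInstance, comp_zero]
  obtain ⟨ψ, hψ⟩ : ∃ ψ : Z ⟶ X, q = g ≫ ψ := Triangle.yoneda_exact₂ _ hT q hpq
  let j := t.descTruncGE ψ n
  have hj : π ≫ j = q := by rw [hψ, Category.assoc, t.π_descTruncGE]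
  refine ⟨_, j, π, hepi _ _ ?_, hj⟩
  rw [← Category.assoc, hj, Category.comp_id]
  calc q ≫ π = (𝟙 X - p) ≫ π := by simp [p]
    _ = π := by rw [Preadditive.sub_comp, hpπ, Category.id_comp, sub_zero]

omit [IsTriangulated C] in
theorem splits_amp : ∀ (m : ℕ) (X : C) (a : ℤ) [t.IsGE X a] [t.IsLE X (a + m)] (p : X ⟶ X), p ≫ p = p → Splits p
  | 0, X, a, _, _, p, hp => by
    have : t.IsLE X a := t.isLE_of_le X (a + (0 : ℕ)) a (by simp)
    exact splits_pure t X a p hp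
  | m + 1, X, a, _, _, p, hp => by
    have hTri := t.triangleLTGE_distinguished (a + 1) X
    have h1 : t.IsGE ((t.truncLT (a + 1)).obj X) a := by
      have : t.IsGE (((t.truncGE (a + 1)).obj X)⟦(-1 : ℤ)⟧) (a + 1 + 1) :=
        t.isGE_shift ((t.truncGE (a + 1)).obj X) (a + 1) (-1) (a + 1 + 1)
      exact t.isGE₂ _ (inv_rot_of_distTriang _ hTri) a (t.isGE_of_ge (((t.truncGE (a + 1)).obj X)⟦(-1 : ℤ)⟧) a (a + 1 + 1))
        (inferInstanceAs (t.IsGE X a))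
    have h2 : t.IsLE ((t.truncGE (a + 1)).obj X) (a + (m + 1 : ℕ)) :=
      t.isLE₂ _ (rot_of_distTriang _ hTri) _ (inferInstanceAs (t.IsLE X _))
        (by
          have : t.IsLE (((t.truncLT (a + 1)).obj X)⟦(1 : ℤ)⟧) (a - 1) := t.isLE_shift _ a 1 (a - 1)
          exact t.isLE_of_le (((t.truncLT (a + 1)).obj X)⟦(1 : ℤ)⟧) (a - 1) _)
    have h3 : t.IsLE ((t.truncGE (a + 1)).obj X) (a + 1 + m) :=
      t.isLE_of_le _ (a + (m + 1 : ℕ)) _ (by push_cast; omega)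
    have hA : Splits ((t.truncLT (a + 1)).map p) :=
      splits_pure t _ a _ (by rw [← Functor.map_comp, hp])
    have hB : Splits ((t.truncGE (a + 1)).map p) :=
      splits_amp m _ (a + 1) _ (by rw [← Functor.map_comp, hp])
    exact splits_of_triangle hTri ((t.triangleLTGE (a + 1)).map p) hp hA hB

theorem isIdempotentComplete (hb : ∀ X : C, t.bounded X) : IsIdempotentComplete C := ⟨fun X p hp => by
  obtain ⟨⟨a, ha⟩, b, hb⟩ := hb X
  have : t.IsGE X a := ha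
  have : t.IsLE X b := hb
  have : t.IsLE X (a + (b - a).toNat) := t.isLE_of_le X b _ (by omega)
  exact splits_amp t (b - a).toNat X a p hp⟩

end Groth.L10.Tri
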