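import Mathlib.CategoryTheory.Triangulated.TStructure.TruncLEGT
import Mathlib.CategoryTheory.Triangulated.TStructure.Heart
import Mathlib.CategoryTheory.Triangulated.Subcategory
import Mathlib.CategoryTheory.Localization.CalculusOfFractions
import Mathlib.CategoryTheory.Localization.Triangulated

/-! The t-structure induced on a Verdier quotient by a subcategory compatible with cohomology. -/

universe v v' u u'

open CategoryTheory CategoryTheory.Limits CategoryTheory.Triangulated Pretriangulated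

set_option autoImplicit false
set_option backward.defeqAttrib.useBackward true
set_option backward.isDefEq.respectTransparency false

namespace Groth.L10.QuotientT

variable {C : Type u} [Category.{v} C] [Preadditive C] [HasZeroObject C] [HasShift C ℤ]
  [∀ n : ℤ, (shiftFunctor C n).Additive] [Pretriangulated C] [IsTriangulated C]
  (t : TStructure C) (D : ObjectProperty C) [D.IsTriangulated] [D.IsClosedUnderIsomorphisms]

theorem D_zero {X : C} (hX : IsZero X) : D X := by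
  obtain ⟨Z, hZ, hDZ⟩ := ObjectProperty.exists_prop_of_containsZero D
  exact D.prop_of_iso (hZ.iso hX) hDZ

theorem D_truncLT (h1 : ∀ X : C, D X → ∀ n : ℤ, D ((t.truncGELE n n).obj X)) (hb : ∀ X : C, t.bounded X)
    (Y : C) (hY : D Y) (m : ℤ) : D ((t.truncLT m).obj Y) := by
  obtain ⟨a, ha⟩ := (hb Y).1
  by_cases hm : m ≤ a
  · have : t.IsGE Y m := t.isGE_of_ge Y m a hm
    exact D_zero D (t.isZero_truncLT_obj_of_isGE m Y)
  · obtain ⟨k, rfl⟩ : ∃ k : ℕ, m = a + k := ⟨(m - a).toNat, by omega⟩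
    clear hm
    induction k with
    | zero =>
      have : t.IsGE Y (a + ((0 : ℕ) : ℤ)) := t.isGE_of_ge Y _ a (by simp)
      exact D_zero D (t.isZero_truncLT_obj_of_isGE _ Y)
    | succ k ih =>
      have hT := t.triangleLTLTGELT_distinguished (a + k) (a + ((k + 1 : ℕ) : ℤ)) (by push_cast; omega) Y
      refine D.ext_of_isTriangulatedClosed₂ _ hT ih ?_
      have hn : a + ((k + 1 : ℕ) : ℤ) = a + k + 1 := by push_cast; omega
      change D ((t.truncGE (a + k)).obj ((t.truncLT (a + ((k + 1 : ℕ) : ℤ))).obj Y))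
      rw [hn]
      exact h1 Y hY (a + k)

theorem D_truncGE (h1 : ∀ X : C, D X → ∀ n : ℤ, D ((t.truncGELE n n).obj X)) (hb : ∀ X : C, t.bounded X)
    (Y : C) (hY : D Y) (m : ℤ) : D ((t.truncGE m).obj Y) :=
  D.ext_of_isTriangulatedClosed₃ _ (t.triangleLTGE_distinguished m Y) (D_truncLT t D h1 hb Y hY m) hY

variable (h1 : ∀ X : C, D X → ∀ n : ℤ, D ((t.truncGELE n n).obj X)) (hb : ∀ X : C, t.bounded X)
  (h2 : ∀ (X Y Z : C) (f : X ⟶ Y) (g : Y ⟶ Z) (h : Z ⟶ X⟦(1 : ℤ)⟧),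
      Triangle.mk f g h ∈ distTriang C → t.heart X → t.heart Y → t.heart Z → D Y → D X ∧ D Z)

include h1 hb h2 in
/-- Key lemma: a map `X' ⟶ X` with cone in `D` into an object `≤ 0` has `τ≥1 X' ∈ D`. -/
theorem D_truncGE_one {X' X W : C} (a : W ⟶ X') (b : X' ⟶ X) (c : X ⟶ W⟦(1 : ℤ)⟧)
    (hT : Triangle.mk a b c ∈ distTriang C) (hW : D W) [t.IsLE X 0] : D ((t.truncGE 1).obj X') := by
  let A := (t.truncGE 1).obj W
  let B := (t.truncGE 1).obj X'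
  let f : A ⟶ B := (t.truncGE 1).map a
  obtain ⟨Cc, g, δ, hC⟩ := distinguished_cocone_triangle f
  have hA : D A := D_truncGE t D h1 hb W hW 1
  -- the cone of `W ⟶ B`
  obtain ⟨P, gP, δP, hP⟩ := distinguished_cocone_triangle (a ≫ (t.truncGEπ 1).app X')
  have hP0 : t.IsLE P 0 := by
    have H := someOctahedron rfl hT (rot_of_distTriang _ (t.triangleLTGE_distinguished 1 X')) hP
    refine t.isLE₂ _ H.mem 0 (by dsimp; infer_instance) ?_
    change t.IsLE (((t.truncLT 1).obj X')⟦(1 : ℤ)⟧) 0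
    have := t.isLE_truncLT_obj X' 1 0
    have := t.isLE_shift ((t.truncLT 1).obj X') 0 1 (-1)
    exact t.isLE_of_le _ (-1) 0
  have hC0 : t.IsLE Cc 0 := by
    have e : (t.truncGEπ 1).app W ≫ f = a ≫ (t.truncGEπ 1).app X' := ((t.truncGEπ 1).naturality a).symm
    have H := someOctahedron e (rot_of_distTriang _ (t.triangleLTGE_distinguished 1 W)) hC hP
    refine t.isLE₂ _ (rot_of_distTriang _ H.mem) 0 (by dsimp; infer_instance) ?_
    change t.IsLE ((((t.truncLT 1).obj W)⟦(1 : ℤ)⟧)⟦(1 : ℤ)⟧) 0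
    have := t.isLE_truncLT_obj W 1 0
    have := t.isLE_shift ((t.truncLT 1).obj W) 0 1 (-1)
    have := t.isLE_shift (((t.truncLT 1).obj W)⟦(1 : ℤ)⟧) (-1) 1 (-2)
    exact t.isLE_of_le _ (-2) 0
  have hA1 : t.IsGE (A⟦(1 : ℤ)⟧) 0 := t.isGE_shift A 1 1 0
  have hB0 : t.IsGE B 0 := t.isGE_of_ge B 0 1
  have hB1 : t.IsGE (B⟦(1 : ℤ)⟧) 0 := t.isGE_shift B 1 1 0
  have hC1 : t.IsGE Cc 0 := t.isGE₂ _ (rot_of_distTriang _ hC) 0 hB0 hA1
  -- the degree `1` cohomology of `A`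
  let H0 := (t.truncLT 1).obj (A⟦(1 : ℤ)⟧)
  have hDH : D H0 := D_truncLT t D h1 hb _ (D.le_shift _ _ hA) 1
  let u : Cc ⟶ H0 := t.liftTruncLT δ 0 1 rfl
  have hu : u ≫ (t.truncLTι 1).app (A⟦(1 : ℤ)⟧) = δ := t.liftTruncLT_ι δ 0 1 rfl
  obtain ⟨K, gK, δK, hK⟩ := distinguished_cocone_triangle u
  have hH0 : t.IsLE H0 0 := t.isLE_truncLT_obj _ _ _
  have hH1 : t.IsGE H0 0 := inferInstanceAs (t.IsGE ((t.truncLT 1).obj (A⟦(1 : ℤ)⟧)) 0)
  have hKh : t.heart K := by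
    have hKle : t.IsLE K 0 := by
      refine t.isLE₂ _ (rot_of_distTriang _ hK) 0 hH0 ?_
      change t.IsLE (Cc⟦(1 : ℤ)⟧) 0
      have := t.isLE_shift Cc 0 1 (-1)
      exact t.isLE_of_le _ (-1) 0
    have H := someOctahedron hu hK (t.triangleLTGE_distinguished 1 (A⟦(1 : ℤ)⟧)) (rot_of_distTriang _ (rot_of_distTriang _ hC))
    have hKge : t.IsGE K 0 := by
      refine t.isGE₂ _ (inv_rot_of_distTriang _ H.mem) 0 ?_ hB1
      change t.IsGE (((t.truncGE 1).obj (A⟦(1 : ℤ)⟧))⟦(-1 : ℤ)⟧) 0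
      have := t.isGE_shift ((t.truncGE 1).obj (A⟦(1 : ℤ)⟧)) 1 (-1) 2
      exact t.isGE_of_ge _ 0 2
    exact (t.mem_heart_iff K).2 ⟨hKle, hKge⟩
  have hDC : D Cc := (h2 Cc H0 K u gK δK hK ((t.mem_heart_iff Cc).2 ⟨hC0, hC1⟩)
    ((t.mem_heart_iff H0).2 ⟨hH0, hH1⟩) hKh hDH).1
  exact D.ext_of_isTriangulatedClosed₂ _ hC hA hDC

section Quot

variable {E : Type u'} [Category.{v'} E] [Preadditive E] [HasZeroObject E] [HasShift E ℤ]
  [∀ n : ℤ, (shiftFunctor E n).Additive] [Pretriangulated E]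
  (q : C ⥤ E) [q.CommShift ℤ] [q.IsTriangulated] [q.IsLocalization D.trW]

include h1 hb h2 in
theorem orth {X Y : C} (f : q.obj X ⟶ q.obj Y) [t.IsLE X 0] [t.IsGE Y 1] : f = 0 := by
  obtain ⟨φ, rfl⟩ := Localization.exists_rightFraction q D.trW f
  obtain ⟨W, a, c, hT, hW⟩ := (D.trW_iff' φ.s).1 φ.hs
  have hD := D_truncGE_one t D h1 hb h2 a φ.s c hT hW
  have hι : D.trW ((t.truncLTι 1).app φ.X') := ObjectProperty.trW.mk D (t.triangleLTGE_distinguished 1 φ.X') hD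
  have := Localization.inverts q D.trW _ hι
  have hL := t.isLE_truncLT_obj φ.X' 1 0
  have h0 : q.map φ.f = 0 := by
    rw [← cancel_epi (q.map ((t.truncLTι 1).app φ.X')), ← q.map_comp,
      t.zero ((t.truncLTι 1).app φ.X' ≫ φ.f) 0 1, q.map_zero, comp_zero]
  rw [MorphismProperty.RightFraction.map, h0, comp_zero]

/-- The induced t-structure. -/
noncomputable def tQ : TStructure E where
  le n := fun Y => ∃ X : C, t.IsLE X n ∧ Nonempty (q.obj X ≅ Y)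
  ge n := fun Y => ∃ X : C, t.IsGE X n ∧ Nonempty (q.obj X ≅ Y)
  le_isClosedUnderIsomorphisms n := ⟨fun e ⟨X, hX, ⟨e'⟩⟩ => ⟨X, hX, ⟨e' ≪≫ e⟩⟩⟩
  ge_isClosedUnderIsomorphisms n := ⟨fun e ⟨X, hX, ⟨e'⟩⟩ => ⟨X, hX, ⟨e' ≪≫ e⟩⟩⟩
  le_shift n a n' h Y := fun ⟨X, hX, ⟨e⟩⟩ =>
    ⟨X⟦a⟧, t.isLE_shift X n a n' h, ⟨(q.commShiftIso a).app X ≪≫ (shiftFunctor E a).mapIso e⟩⟩
  ge_shift n a n' h Y := fun ⟨X, hX, ⟨e⟩⟩ =>
    ⟨X⟦a⟧, t.isGE_shift X n a n' h, ⟨(q.commShiftIso a).app X ≪≫ (shiftFunctor E a).mapIso e⟩⟩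
  zero' {A B} f := fun ⟨X, hX, ⟨e⟩⟩ ⟨Y, hY, ⟨e'⟩⟩ => by
    rw [← cancel_epi e.hom, ← cancel_mono e'.inv, orth t D h1 hb h2 q ((e.hom ≫ f) ≫ e'.inv)]
    simp
  le_zero_le := fun Y ⟨X, hX, e⟩ => ⟨X, t.isLE_of_le X 0 1, e⟩
  ge_one_le := fun Y ⟨X, hX, e⟩ => ⟨X, t.isGE_of_ge X 0 1, e⟩
  exists_triangle_zero_one A := by
    have := Localization.essSurj q D.trW
    obtain ⟨X, ⟨e⟩⟩ : ∃ X, Nonempty (q.obj X ≅ A) := ⟨q.objPreimage A, ⟨q.objObjPreimageIso A⟩⟩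
    refine ⟨_, _, ⟨(t.truncLT 1).obj X, t.isLE_truncLT_obj _ _ _, ⟨Iso.refl _⟩⟩,
      ⟨(t.truncGE 1).obj X, t.isGE_truncGE_obj _ _ _, ⟨Iso.refl _⟩⟩,
      q.map ((t.truncLTι 1).app X) ≫ e.hom, e.inv ≫ q.map ((t.truncGEπ 1).app X),
      (q.mapTriangle.obj ((t.triangleLTGE 1).obj X)).mor₃, ?_⟩
    refine isomorphic_distinguished _ (q.map_distinguished _ (t.triangleLTGE_distinguished 1 X)) _ ?_
    exact Triangle.isoMk _ _ (Iso.refl _) e.symm (Iso.refl _) (by simp) (by simp) (by simp)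

theorem isLE_tQ_iff (Y : E) (n : ℤ) :
    (tQ t D h1 hb h2 q).IsLE Y n ↔ ∃ X : C, t.IsLE X n ∧ Nonempty (q.obj X ≅ Y) :=
  ((tQ t D h1 hb h2 q).le_iff_isLE Y n).symm

theorem isGE_tQ_iff (Y : E) (n : ℤ) :
    (tQ t D h1 hb h2 q).IsGE Y n ↔ ∃ X : C, t.IsGE X n ∧ Nonempty (q.obj X ≅ Y) :=
  ((tQ t D h1 hb h2 q).ge_iff_isGE Y n).symm

end Quot

end Groth.L10.QuotientT
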