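import Groth.Agent.L10.DerTrunc
import Mathlib.CategoryTheory.Limits.Shapes.Biproducts
import Mathlib.Data.Int.Interval

/-! Splitting of complexes with vanishing Ext groups of degree at least two between cohomology objects. -/

universe w v u

open CategoryTheory CategoryTheory.Limits CategoryTheory.Pretriangulated CategoryTheory.Triangulated

set_option backward.defeqAttrib.useBackward true
set_option backward.isDefEq.respectTransparency false
namespace Groth.L10.Tri

variable {A : Type u} [Category.{v} A] [Abelian A] [HasDerivedCategory.{w} A]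

local notation "tt" => DerivedCategory.TStructure.t
local notation "H" => DerivedCategory.homologyFunctor A
local notation "S" => DerivedCategory.singleFunctor A

theorem zero_to_shift_of_H (T : DerivedCategory A) : ∀ (k : ℕ) (Y : DerivedCategory A) (b : ℤ),
    Y.IsGE (b - k) → Y.IsLE b →
    (∀ j, j ≤ b → ∀ f : T ⟶ ((S j).obj ((H j).obj Y))⟦(1 : ℤ)⟧, f = 0) → ∀ f : T ⟶ Y⟦(1 : ℤ)⟧, f = 0
  | 0, Y, b, hg, _, h, f => by
    have : Y.IsGE b := (tt).isGE_of_ge Y b (b - (0 : ℕ)) (by simp)
    obtain ⟨e⟩ := Groth.L10.exists_iso_single_H Y b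
    rw [← cancel_mono (e.hom⟦(1 : ℤ)⟧'), zero_comp]
    exact h b le_rfl _
  | k + 1, Y, b, hg, _, h, f => by
    have hT := Triangle.shift_distinguished _ ((tt).triangleLTGE_distinguished b Y) (1 : ℤ)
    have g1 : DerivedCategory.IsLE (((tt).truncLT b).obj Y) (b - 1) := inferInstance
    have : (tt).IsGE Y (b - (k + 1 : ℕ)) := hg
    have g2 : DerivedCategory.IsGE (((tt).truncLT b).obj Y) (b - 1 - k) :=
      (tt).isGE_of_ge _ (b - 1 - k) (b - (k + 1 : ℕ)) (by push_cast; omega)
    have g3 : DerivedCategory.IsLE (((tt).truncGE b).obj Y) b := inferInstanceAs ((tt).IsLE _ b)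
    have g4 : DerivedCategory.IsGE (((tt).truncGE b).obj Y) b := inferInstanceAs ((tt).IsGE _ b)
    have h1 : f ≫ (((tt).truncGEπ b).app Y)⟦(1 : ℤ)⟧' = 0 := by
      obtain ⟨e⟩ := Groth.L10.exists_iso_single_H (((tt).truncGE b).obj Y) b
      have := Groth.L10.isIso_H_π b b le_rfl Y
      let e' := e ≪≫ (S b).mapIso (asIso ((H b).map (((tt).truncGEπ b).app Y))).symm
      refine (cancel_mono (e'.hom⟦(1 : ℤ)⟧')).1 ?_
      rw [zero_comp]
      exact h b le_rfl _
    obtain ⟨g, hg'⟩ := Triangle.coyoneda_exact₂ _ hT f (by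
      change f ≫ ((1 : ℤ).negOnePow • (((tt).truncGEπ b).app Y)⟦(1 : ℤ)⟧') = 0
      rw [Linear.comp_units_smul, h1, smul_zero])
    rw [hg', zero_to_shift_of_H T k (((tt).truncLT b).obj Y) (b - 1) g2 g1 (fun j hj ψ => ?_) g]
    · exact zero_comp
    · have := Groth.L10.isIso_H_ι b j (by omega) Y
      refine (cancel_mono (((S j).map ((H j).map (((tt).truncLTι b).app Y)))⟦(1 : ℤ)⟧')).1 ?_
      rw [zero_comp]
      exact h j (by omega) _

/-- The Ext vanishing hypothesis. -/
abbrev ExtVan (K : DerivedCategory A) : Prop := ∀ (i j : ℤ) (p : ℕ), j < i → 2 ≤ p →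
      ∀ f : (DerivedCategory.singleFunctor A 0).obj ((DerivedCategory.homologyFunctor A i).obj K) ⟶
        ((DerivedCategory.singleFunctor A 0).obj ((DerivedCategory.homologyFunctor A j).obj K))⟦(p : ℤ)⟧, f = 0

theorem van (K : DerivedCategory A) (hExt : ExtVan K) (i j : ℤ) (hij : j < i) (f : (S i).obj ((H i).obj K) ⟶ ((S j).obj ((H j).obj K))⟦(1 : ℤ)⟧) : f = 0 := by
  let ei := ((DerivedCategory.singleFunctors A).shiftIso i 0 i (by omega)).app ((H i).obj K)
  let ej := ((DerivedCategory.singleFunctors A).shiftIso j 0 j (by omega)).app ((H j).obj K)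
  let e' := ((shiftFunctorAdd' (DerivedCategory A) (1 : ℤ) i (1 + i) rfl).app ((S j).obj ((H j).obj K))).symm ≪≫
    (shiftFunctorAdd' (DerivedCategory A) (1 + i - j) j (1 + i) (by omega)).app _
  obtain ⟨p, hp⟩ : ∃ p : ℕ, (p : ℤ) = i - j + 1 := ⟨(i - j + 1).toNat, by omega⟩
  refine (shiftFunctor (DerivedCategory A) i).map_injective ?_
  rw [Functor.map_zero, ← cancel_epi ei.inv, comp_zero]
  refine (cancel_mono ((((shiftFunctorAdd' (DerivedCategory A) (1 : ℤ) i (1 + i) rfl).app _).symm ≪≫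
    (shiftFunctorAdd' (DerivedCategory A) j (p : ℤ) (1 + i) (by omega)).app _).hom)).1 ?_
  refine (cancel_mono (ej.hom⟦(p : ℤ)⟧')).1 ?_
  rw [zero_comp, zero_comp]
  exact hExt i j p hij (by omega) _

theorem exists_splitting (K : DerivedCategory A) (a : ℤ) [K.IsGE a] (hExt : ExtVan K) (n : ℤ) : ∃ φ : (S n).obj ((H n).obj K) ⟶ K, IsIso ((H n).map φ) := by
  let X := ((tt).truncLT (n + 1)).obj K
  have hX : DerivedCategory.IsLE X n := inferInstanceAs ((tt).IsLE _ n)
  have g3 : DerivedCategory.IsLE (((tt).truncGE n).obj X) n := inferInstanceAs ((tt).IsLE _ n)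
  have g4 : DerivedCategory.IsGE (((tt).truncGE n).obj X) n := inferInstanceAs ((tt).IsGE _ n)
  obtain ⟨e⟩ := Groth.L10.exists_iso_single_H (((tt).truncGE n).obj X) n
  have hπ := Groth.L10.isIso_H_π n n le_rfl X
  have hι := Groth.L10.isIso_H_ι (n + 1) n (by omega) K
  let θ : (S n).obj ((H n).obj K) ⟶ ((tt).truncGE n).obj X :=
    (S n).map (inv ((H n).map (((tt).truncLTι (n + 1)).app K)) ≫ (H n).map (((tt).truncGEπ n).app X)) ≫ e.inv
  have hθ : IsIso θ := inferInstance
  have hzero : θ ≫ ((tt).truncGEδLT n).app X = 0 := by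
    have hGE : (tt).IsGE (((tt).truncLT n).obj X) a := by
      have : (tt).IsGE K a := ‹_›
      infer_instance
    refine zero_to_shift_of_H _ (n - 1 - a).toNat _ (n - 1) ((tt).isGE_of_ge _ _ a (by omega)) inferInstance (fun j hj ψ => ?_) _
    have := Groth.L10.isIso_H_ι (n + 1) j (by omega) K
    have := Groth.L10.isIso_H_ι n j (by omega) X
    have : IsIso ((H j).map (((tt).truncLTι n).app X ≫ ((tt).truncLTι (n + 1)).app K)) := by
      rw [CategoryTheory.Functor.map_comp]; infer_instance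
    refine (cancel_mono (((S j).map ((H j).map (((tt).truncLTι n).app X ≫ ((tt).truncLTι (n + 1)).app K)))⟦(1 : ℤ)⟧')).1 ?_
    rw [zero_comp]
    exact van K hExt n j (by omega) _
  obtain ⟨ψ, hψ⟩ : ∃ ψ : (S n).obj ((H n).obj K) ⟶ X, θ = ψ ≫ ((tt).truncGEπ n).app X :=
    Triangle.coyoneda_exact₃ _ ((tt).triangleLTGE_distinguished n X) θ hzero
  refine ⟨ψ ≫ ((tt).truncLTι (n + 1)).app K, ?_⟩
  rw [Functor.map_comp]
  have : IsIso ((H n).map ψ) := by
    have h : IsIso ((H n).map θ) := inferInstance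
    rw [hψ, Functor.map_comp] at h
    exact IsIso.of_isIso_comp_right _ ((H n).map (((tt).truncGEπ n).app X))
  infer_instance

theorem nonempty_iso (K : DerivedCategory A) (a b : ℤ) [K.IsGE a] [K.IsLE b] (hExt : ExtVan K)
    [HasBiproduct (fun i : Finset.Icc a b => (S (i : ℤ)).obj ((H (i : ℤ)).obj K))] :
    Nonempty (K ≅ ⨁ (fun i : Finset.Icc a b => (S (i : ℤ)).obj ((H (i : ℤ)).obj K))) := by
  choose φ hφ using exists_splitting K a hExt
  let F := fun i : Finset.Icc a b => (S (i : ℤ)).obj ((H (i : ℤ)).obj K)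
  let Φ : ⨁ F ⟶ K := biproduct.desc fun i => φ i
  have hz : ∀ (i : Finset.Icc a b) (n : ℤ), (i : ℤ) ≠ n → IsZero ((H n).obj (F i)) := fun i n hin => by
    rcases lt_or_gt_of_ne hin with h | h
    · exact DerivedCategory.isZero_of_isLE _ (i : ℤ) n h
    · exact DerivedCategory.isZero_of_isGE _ (i : ℤ) n h
  have htot : ∀ n, 𝟙 ((H n).obj (⨁ F)) = ∑ i, (H n).map (biproduct.π F i) ≫ (H n).map (biproduct.ι F i) := fun n => by
    rw [← (H n).map_id, ← biproduct.total, Functor.map_sum]
    simp only [Functor.map_comp]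
  have : IsIso Φ := by
    rw [DerivedCategory.isIso_iff]
    intro n
    by_cases hn : n ∈ Finset.Icc a b
    · let i : Finset.Icc a b := ⟨n, hn⟩
      have : IsIso ((H n).map (biproduct.ι F i)) := ⟨(H n).map (biproduct.π F i), by
        rw [← Functor.map_comp, biproduct.ι_π_self, CategoryTheory.Functor.map_id], by
        rw [htot n, Finset.sum_eq_single i (fun j _ hj => by
            rw [(hz j n (fun h => hj (Subtype.ext h))).eq_of_tgt ((H n).map (biproduct.π F j)) 0, zero_comp])
          (fun h => absurd (Finset.mem_univ i) h)]⟩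
      have h := hφ n
      rw [show φ n = biproduct.ι F i ≫ Φ from (biproduct.ι_desc (f := F) (fun i : Finset.Icc a b => φ i) i).symm, Functor.map_comp] at h
      exact IsIso.of_isIso_comp_left ((H n).map (biproduct.ι F i)) _
    · refine ⟨0, ?_, ?_⟩
      · rw [comp_zero, htot n, Finset.sum_eq_zero]
        intro j _
        rw [(hz j n (fun h => hn (h ▸ j.2))).eq_of_tgt ((H n).map (biproduct.π F j)) 0, zero_comp]
      · refine (IsZero.eq_of_src ?_ _ _)
        rw [Finset.mem_Icc] at hn
        by_cases h : n < a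
        · exact DerivedCategory.isZero_of_isGE K a n h
        · exact DerivedCategory.isZero_of_isLE K b n (by omega)
  exact ⟨(asIso Φ).symm⟩

end Groth.L10.Tri
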