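import Mathlib.CategoryTheory.Triangulated.Subcategory
import Mathlib.CategoryTheory.Triangulated.Triangulated
import Mathlib.CategoryTheory.Localization.CalculusOfFractions
import Mathlib.CategoryTheory.Linear.LinearFunctor
import Mathlib.CategoryTheory.ObjectProperty.Retract
import Mathlib.Algebra.Module.LocalizedModule.Basic

/-! Torsion objects of linear triangulated categories. -/

universe w v u v' u'

open CategoryTheory CategoryTheory.Limits CategoryTheory.Pretriangulated ZeroObject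

namespace Groth.L10.Tri

variable {A : Type w} [CommRing A] (S : Submonoid A)
  {T : Type u} [Category.{v} T] [Preadditive T] [Linear A T]

/-- The objects killed by an element of the multiplicative set. -/
def Killed : ObjectProperty T := fun Z => ∃ f ∈ S, f • 𝟙 Z = 0

instance : (Killed S (T := T)).IsClosedUnderIsomorphisms :=
  ⟨fun {X Y} e ⟨f, hf, h⟩ => ⟨f, hf, by
    rw [← e.inv_hom_id, ← Category.id_comp e.hom, ← Linear.comp_smul, ← Linear.smul_comp, h, zero_comp, comp_zero]⟩⟩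

instance : (Killed S (T := T)).IsStableUnderRetracts where
  of_retract {X Y} r := fun ⟨f, hf, h⟩ => ⟨f, hf, by
    rw [← r.retract, ← Category.id_comp r.r, ← Linear.comp_smul, ← Linear.smul_comp, h, zero_comp, comp_zero]⟩

variable [HasZeroObject T] [HasShift T ℤ]
    [∀ n : ℤ, (shiftFunctor T n).Additive] [∀ n : ℤ, (shiftFunctor T n).Linear A]
    [Pretriangulated T]

instance : (Killed S (T := T)).IsTriangulated where
  exists_zero := ⟨0, isZero_zero T, 1, S.one_mem, (isZero_zero T).eq_of_src _ _⟩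
  isStableUnderShiftBy n := ⟨fun Z ⟨f, hf, h⟩ => ⟨f, hf, by
    rw [← (shiftFunctor T n).map_id, ← Functor.map_smul, h, Functor.map_zero]⟩⟩
  ext₂' := fun Tr hT ⟨f, hf, h₁⟩ ⟨g, hg, h₃⟩ => ObjectProperty.le_isoClosure _ _ ⟨g * f, S.mul_mem hg hf, by
    have h : (g • 𝟙 Tr.obj₂) ≫ Tr.mor₂ = 0 := by
      rw [Linear.smul_comp, Category.id_comp, ← Category.comp_id Tr.mor₂, ← Linear.comp_smul, h₃, comp_zero]
    obtain ⟨l, hl⟩ := Triangle.coyoneda_exact₂ _ hT _ h
    have e : (g * f) • 𝟙 Tr.obj₂ = (g • 𝟙 Tr.obj₂) ≫ (f • 𝟙 Tr.obj₂) := by simp [smul_smul, mul_comm]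
    rw [e, hl, Category.assoc, Linear.comp_smul, Category.comp_id, ← Category.id_comp Tr.mor₁, ← Linear.smul_comp, h₁,
      zero_comp, comp_zero]⟩

theorem killed_cone {X Z : T} {f : A} (hf : f ∈ S) {g : X ⟶ Z} {h : Z ⟶ X⟦(1 : ℤ)⟧}
    (hT : Triangle.mk (f • 𝟙 X) g h ∈ distTriang T) : Killed S Z := by
  have h1 : g ≫ (f • 𝟙 Z) = 0 := by
    rw [Linear.comp_smul, Category.comp_id, ← Category.id_comp g, ← Linear.smul_comp]
    exact comp_distTriang_mor_zero₁₂ _ hT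
  obtain ⟨k, hk⟩ : ∃ k : X⟦(1 : ℤ)⟧ ⟶ Z, f • 𝟙 Z = h ≫ k := Triangle.yoneda_exact₃ _ hT _ h1
  have h2 : (f • 𝟙 Z) ≫ h = 0 := by
    rw [Linear.smul_comp, Category.id_comp, ← Category.comp_id h, ← Linear.comp_smul, ← (shiftFunctor T (1 : ℤ)).map_id,
      ← Functor.map_smul]
    exact comp_distTriang_mor_zero₃₁ _ hT
  obtain ⟨l, hl⟩ : ∃ l : Z ⟶ X, f • 𝟙 Z = l ≫ g := Triangle.coyoneda_exact₃ _ hT _ h2
  refine ⟨f * f, S.mul_mem hf hf, ?_⟩
  have e : (f * f) • 𝟙 Z = (f • 𝟙 Z) ≫ (f • 𝟙 Z) := by simp [smul_smul]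
  rw [e]
  nth_rw 1 [hl]
  rw [hk, Category.assoc]
  have h0 : g ≫ h = 0 := comp_distTriang_mor_zero₂₃ _ hT
  rw [reassoc_of% h0, zero_comp, comp_zero]

variable {S} [IsTriangulated T] {U : ObjectProperty T} [U.IsTriangulated] (hUK : U ≤ Killed S)

omit [∀ (n : ℤ), Functor.Linear A (shiftFunctor T n)] [IsTriangulated T] [U.IsTriangulated] in
include hUK in
theorem exists_factor {X' X : T} (s : X' ⟶ X) (hs : U.trW s) : ∃ f ∈ S, ∃ t : X ⟶ X', f • 𝟙 X = t ≫ s := by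
  obtain ⟨Z, g, h, hT, hZ⟩ := hs
  obtain ⟨f, hf, hf0⟩ := hUK _ hZ
  have h1 : (f • 𝟙 X) ≫ g = 0 := by
    rw [Linear.smul_comp, Category.id_comp, ← Category.comp_id g, ← Linear.comp_smul, hf0, comp_zero]
  exact ⟨f, hf, Triangle.coyoneda_exact₂ _ hT _ h1⟩

include hUK in
theorem isLocalizedModule {E : Type u'} [Category.{v'} E] [Preadditive E] [Linear A E]
    (Q : T ⥤ E) [Q.Additive] [Q.Linear A] [Q.IsLocalization U.trW]
    (hU : ∀ (X : T) (f : A), f ∈ S → U.trW (f • 𝟙 X)) (X Y : T) :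
    IsLocalizedModule S (Q.mapLinearMap A : (X ⟶ Y) →ₗ[A] (Q.obj X ⟶ Q.obj Y)) where
  map_units x := by
    rw [Module.End.isUnit_iff]
    have := Localization.inverts Q U.trW _ (hU X x x.2)
    have he : ∀ φ : Q.obj X ⟶ Q.obj Y, algebraMap A (Module.End A (Q.obj X ⟶ Q.obj Y)) x φ =
        Q.map ((x : A) • 𝟙 X) ≫ φ := fun φ => by simp
    refine ⟨fun φ ψ h => ?_, fun φ => ⟨inv (Q.map ((x : A) • 𝟙 X)) ≫ φ, by rw [he, IsIso.hom_inv_id_assoc]⟩⟩
    rw [he, he] at h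
    exact (cancel_epi _).1 h
  surj φ := by
    obtain ⟨r, hr⟩ := Localization.exists_rightFraction Q U.trW φ
    obtain ⟨f, hf, t, ht⟩ := exists_factor hUK r.s r.hs
    refine ⟨⟨t ≫ r.f, ⟨f, hf⟩⟩, ?_⟩
    change f • φ = Q.map (t ≫ r.f)
    have h := r.map_s_comp_map Q (Localization.inverts Q U.trW)
    rw [← hr] at h
    rw [Q.map_comp, ← h, ← Category.assoc, ← Q.map_comp, ← ht, Q.map_smul, Q.map_id, Linear.smul_comp, Category.id_comp]
  exists_of_eq {g g'} h := by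
    obtain ⟨Z, s, hs, e⟩ := (MorphismProperty.map_eq_iff_precomp Q U.trW g g').1 h
    obtain ⟨f, hf, t, ht⟩ := exists_factor hUK s hs
    refine ⟨⟨f, hf⟩, ?_⟩
    change f • g = f • g'
    rw [← Category.id_comp g, ← Category.id_comp g', ← Linear.smul_comp, ← Linear.smul_comp, ht, Category.assoc, e,
      Category.assoc]

end Groth.L10.Tri
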