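import Groth.Agent.L10.DerTrunc

/-! The secondary map of a morphism vanishing on two consecutive cohomology objects. -/

universe w v u

open CategoryTheory CategoryTheory.Limits CategoryTheory.Pretriangulated CategoryTheory.Triangulated

set_option backward.defeqAttrib.useBackward true
set_option backward.isDefEq.respectTransparency false
namespace Groth.L10.Tri

variable {C : Type u} [Category.{v} C] [Preadditive C] [HasZeroObject C] [HasShift C ℤ]
  [∀ n : ℤ, (shiftFunctor C n).Additive] [Pretriangulated C] [IsTriangulated C] (t : TStructure C)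

/-- The projection between adjacent windows. -/
noncomputable abbrev proj (q : ℤ) (X : C) :
    (t.truncGE (q - 1)).obj ((t.truncLT (q + 1)).obj X) ⟶ (t.truncGE q).obj ((t.truncLT (q + 1)).obj X) :=
  (t.natTransTruncGEOfLE (q - 1) q (sub_one_lt q).le).app ((t.truncLT (q + 1)).obj X)

/-- The inclusion between adjacent windows. -/
noncomputable abbrev incl (q : ℤ) (X : C) :
    (t.truncGE (q - 1)).obj ((t.truncLT q).obj X) ⟶ (t.truncGE (q - 1)).obj ((t.truncLT (q + 1)).obj X) :=
  (t.truncGE (q - 1)).map ((t.natTransTruncLTOfLE q (q + 1) (lt_add_one q).le).app X)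

omit [IsTriangulated C] in
theorem eq_of_proj_comp (q : ℤ) (X : C) {Z : C} [t.IsGE Z (q - 1)]
    (φ ψ : (t.truncGE q).obj ((t.truncLT (q + 1)).obj X) ⟶ Z) (h : proj t q X ≫ φ = proj t q X ≫ ψ) : φ = ψ := by
  rw [← sub_eq_zero] at h ⊢
  rw [← Preadditive.comp_sub] at h
  have h' : (t.truncGEπ q).app ((t.truncLT (q + 1)).obj X) ≫ (φ - ψ) = 0 := by
    rw [← t.π_natTransTruncGEOfLE_app (q - 1) q (sub_one_lt q).le, Category.assoc, h, comp_zero]
  obtain ⟨k, hk⟩ : ∃ k : ((t.truncLT q).obj ((t.truncLT (q + 1)).obj X))⟦(1 : ℤ)⟧ ⟶ Z,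
      φ - ψ = (t.truncGEδLT q).app _ ≫ k :=
    Triangle.yoneda_exact₃ _ (t.triangleLTGE_distinguished q ((t.truncLT (q + 1)).obj X)) _ h'
  have : t.IsLE (((t.truncLT q).obj ((t.truncLT (q + 1)).obj X))⟦(1 : ℤ)⟧) (q - 1 - 1) :=
    t.isLE_shift _ (q - 1) 1 (q - 1 - 1)
  rw [hk, t.zero_of_isLE_of_isGE k (q - 1 - 1) (q - 1) (by omega) inferInstance inferInstance]
  exact comp_zero

theorem isIso_truncLT_incl (q : ℤ) (X : C) : IsIso ((t.truncLT q).map (incl t q X)) := by
  have h1 := t.isIso_truncLT_map_truncLTι_app q (q + 1) (by omega) X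
  have e : (t.natTransTruncLTOfLE q (q + 1) (lt_add_one q).le).app X =
      inv ((t.truncLT q).map ((t.truncLTι (q + 1)).app X)) ≫ (t.truncLTι q).app ((t.truncLT (q + 1)).obj X) := by
    rw [IsIso.eq_inv_comp]
    have : t.IsLE ((t.truncLT q).obj ((t.truncLT (q + 1)).obj X)) (q + 1 - 1) := t.isLE_of_le _ (q - 1) _
    refine t.to_truncLT_obj_ext ?_
    rw [Category.assoc, t.natTransTruncLTOfLE_ι_app]
    exact (t.truncLTι q).naturality _
  rw [incl, e, Functor.map_comp, Functor.map_comp]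
  infer_instance

theorem exists_lift_incl (q : ℤ) (X : C) {Z : C} (M : Z ⟶ (t.truncGE (q - 1)).obj ((t.truncLT (q + 1)).obj X))
    (h : M ≫ proj t q X = 0) : ∃ L, L ≫ incl t q X = M := by
  let Y := (t.truncGE (q - 1)).obj ((t.truncLT (q + 1)).obj X)
  have h1 := t.isIso_truncGE_map_truncGEπ_app q (q - 1) (by omega) ((t.truncLT (q + 1)).obj X)
  have e : proj t q X = (t.truncGEπ q).app Y ≫ inv ((t.truncGE q).map ((t.truncGEπ (q - 1)).app ((t.truncLT (q + 1)).obj X))) := by
    have : t.IsGE ((t.truncGE q).obj ((t.truncLT (q + 1)).obj X)) (q - 1) := t.isGE_of_ge _ (q - 1) q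
    refine t.from_truncGE_obj_ext ?_
    have := (t.truncGEπ q).naturality ((t.truncGEπ (q - 1)).app ((t.truncLT (q + 1)).obj X))
    dsimp at this ⊢
    rw [reassoc_of% this, IsIso.hom_inv_id, Category.comp_id, t.π_natTransTruncGEOfLE_app]
  have h' : M ≫ (t.truncGEπ q).app Y = 0 := by
    rw [e, ← Category.assoc] at h
    exact (cancel_mono _).1 (h.trans zero_comp.symm)
  obtain ⟨M', hM'⟩ := Triangle.coyoneda_exact₂ _ (t.triangleLTGE_distinguished q Y) M h'
  have := isIso_truncLT_incl t q X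
  refine ⟨M' ≫ inv ((t.truncLT q).map (incl t q X)) ≫ (t.truncLTι q).app _, ?_⟩
  have hn := (t.truncLTι q).naturality (incl t q X)
  dsimp at hn
  simp only [Category.assoc]
  rw [← hn, IsIso.inv_hom_id_assoc]
  exact hM'.symm

theorem eq_of_comp_incl (q : ℤ) (X : C) {Z : C} [t.IsLE Z q]
    (φ ψ : Z ⟶ (t.truncGE (q - 1)).obj ((t.truncLT q).obj X)) (h : φ ≫ incl t q X = ψ ≫ incl t q X) : φ = ψ := by
  rw [← sub_eq_zero] at h ⊢
  rw [← Preadditive.sub_comp] at h
  have := isIso_truncLT_incl t q X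
  have : IsIso ((t.truncLTι q).app ((t.truncGE (q - 1)).obj ((t.truncLT q).obj X))) := by
    rw [← t.isLE_iff_isIso_truncLTι_app (q - 1) q (by omega)]
    infer_instance
  have hn := (t.truncLTι q).naturality (incl t q X)
  dsimp at hn
  let w := (φ - ψ) ≫ inv ((t.truncLTι q).app ((t.truncGE (q - 1)).obj ((t.truncLT q).obj X))) ≫ (t.truncLT q).map (incl t q X)
  have hw : w ≫ (t.truncLTι q).app _ = 0 := by
    simp only [w, Category.assoc]
    rw [hn, IsIso.inv_hom_id_assoc, h]
  obtain ⟨k, hk⟩ := Triangle.coyoneda_exact₂ _ (inv_rot_of_distTriang _ (t.triangleLTGE_distinguished q _)) w hw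
  have hge : t.IsGE (((t.truncGE q).obj ((t.truncGE (q - 1)).obj ((t.truncLT (q + 1)).obj X)))⟦(-1 : ℤ)⟧) (q + 1) :=
    t.isGE_shift _ q (-1) (q + 1)
  rw [t.zero_of_isLE_of_isGE k q (q + 1) (by omega) inferInstance hge] at hk
  have hk' := hk.trans zero_comp
  simp only [w] at hk'
  rw [← Category.assoc] at hk'
  exact (cancel_mono (inv ((t.truncLTι q).app ((t.truncGE (q - 1)).obj ((t.truncLT q).obj X))))).1
    (((cancel_mono _).1 (hk'.trans zero_comp.symm)).trans zero_comp.symm)

theorem existsUnique_truncMap {K K' : C} (f : K ⟶ K') (q : ℤ)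
    (hA : (t.truncGE (q - 1)).map ((t.truncLT q).map f) = 0)
    (hB : (t.truncGE q).map ((t.truncLT (q + 1)).map f) = 0) :
    ∃! L : (t.truncGE q).obj ((t.truncLT (q + 1)).obj K) ⟶ (t.truncGE (q - 1)).obj ((t.truncLT q).obj K'),
      (t.truncGE (q - 1)).map ((t.truncLT (q + 1)).map f) = proj t q K ≫ L ≫ incl t q K' := by
  let F := (t.truncGE (q - 1)).map ((t.truncLT (q + 1)).map f)
  have hi : incl t q K ≫ F = 0 := by
    simp only [F, incl]
    rw [← Functor.map_comp, ← NatTrans.naturality, Functor.map_comp, hA, zero_comp]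
  obtain ⟨M, hM⟩ : ∃ M, (t.truncGEπ (q - 1)).app ((t.truncLT (q + 1)).obj K) ≫ F =
      (t.truncGEπ q).app ((t.truncLT (q + 1)).obj K) ≫ M := by
    refine Triangle.yoneda_exact₂ _ (t.triangleLTLTGELT_distinguished q (q + 1) (by omega) K) _ ?_
    change (t.natTransTruncLTOfLE q (q + 1) (by omega)).app K ≫ _ = 0
    have hn := (t.truncGEπ (q - 1)).naturality ((t.natTransTruncLTOfLE q (q + 1) (lt_add_one q).le).app K)
    dsimp at hn
    rw [reassoc_of% hn]
    exact (congrArg (_ ≫ ·) hi).trans comp_zero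
  have hF : F = proj t q K ≫ M := t.from_truncGE_obj_ext (by rw [hM, ← Category.assoc, t.π_natTransTruncGEOfLE_app])
  have hMp : M ≫ proj t q K' = 0 := by
    have : t.IsGE ((t.truncGE q).obj ((t.truncLT (q + 1)).obj K')) (q - 1) := t.isGE_of_ge _ (q - 1) q
    refine eq_of_proj_comp t q K _ _ ?_
    rw [comp_zero, ← Category.assoc, ← hF]
    simp only [F, proj]
    rw [NatTrans.naturality, hB, comp_zero]
  obtain ⟨L, hL⟩ := exists_lift_incl t q K' M hMp
  have : t.IsLE ((t.truncGE q).obj ((t.truncLT (q + 1)).obj K)) q := by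
    have : t.IsLE ((t.truncLT (q + 1)).obj K) q := inferInstance
    infer_instance
  refine ⟨L, hF.trans (by rw [hL]), fun L' hL' => ?_⟩
  refine eq_of_comp_incl t q K' _ _ (eq_of_proj_comp t q K _ _ ?_)
  rw [← hL', hL]; exact hF

open DerivedCategory in
theorem truncGELT_map_eq_zero {A : Type u} [Category.{v} A] [Abelian A] [HasDerivedCategory.{w} A]
    {K K' : DerivedCategory A} (f : K ⟶ K') (n m : ℤ) (hm : n + 1 = m)
    (h : (homologyFunctor A n).map f = 0) :
    ((TStructure.t (C := A)).truncGE n).map (((TStructure.t (C := A)).truncLT m).map f) = 0 := by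
  have : DerivedCategory.IsLE (((TStructure.t (C := A)).truncLT m).obj K) n :=
    (TStructure.t (C := A)).isLE_truncLT_obj K m n (by omega)
  have h1 : DerivedCategory.IsLE (((TStructure.t (C := A)).truncGE n).obj (((TStructure.t (C := A)).truncLT m).obj K)) n :=
    inferInstanceAs ((TStructure.t (C := A)).IsLE _ n)
  have h2 : DerivedCategory.IsGE (((TStructure.t (C := A)).truncGE n).obj (((TStructure.t (C := A)).truncLT m).obj K')) n :=
    inferInstanceAs ((TStructure.t (C := A)).IsGE _ n)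
  refine Groth.L10.eq_zero_of_H_eq_zero n _ ?_
  have := Groth.L10.isIso_H_π n n le_rfl (((TStructure.t (C := A)).truncLT m).obj K)
  have := Groth.L10.isIso_H_ι m n (by omega) K'
  have hπ := congrArg (homologyFunctor A n).map
    (((TStructure.t (C := A)).truncGEπ n).naturality (((TStructure.t (C := A)).truncLT m).map f))
  have hι := congrArg (homologyFunctor A n).map (((TStructure.t (C := A)).truncLTι m).naturality f)
  dsimp at hπ hι
  simp only [Functor.map_comp] at hπ hι
  rw [h, comp_zero] at hι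
  rw [(cancel_mono _).1 (hι.trans zero_comp.symm), zero_comp] at hπ
  exact (cancel_epi _).1 (hπ.symm.trans comp_zero.symm)

end Groth.L10.Tri
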